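import Mathlib
import Cfsg.Agent.S0711
import Cfsg.Agent.S0713
set_option linter.all false

-- part: H544/MillerA
section
/-!
# Lemmas for Miller's bound on transitivity (degree `kp + r`)

Part A: facts about normal subgroups of a full symmetric group.
-/

set_option autoImplicit false

namespace Cfsg.Agent.H544.MillerA

open Equiv Equiv.Perm

section sym

variable {F : Type*} [DecidableEq F]

/-- A product of two transpositions has order dividing `6`. -/
theorem swap_mul_swap_pow_six (a b c d : F) : (swap c d * swap a b) ^ 6 = 1 := by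
  by_cases hab : a = b
  · subst hab
    rw [swap_self, ← Equiv.Perm.one_def, mul_one, show 6 = 2 * 3 by norm_num, pow_mul, pow_two,
      swap_mul_self, one_pow]
  by_cases hcd : c = d
  · subst hcd
    rw [swap_self, ← Equiv.Perm.one_def, one_mul, show 6 = 2 * 3 by norm_num, pow_mul, pow_two,
      swap_mul_self, one_pow]
  have h3 : ∀ x y z : F, x ≠ y → x ≠ z → (swap x y * swap x z) ^ 6 = 1 := by
    intro x y z hxy hxz
    by_cases hyz : y = z
    · subst hyz; rw [swap_mul_self, one_pow]
    · have e : swap x y * swap x z = swap x y * swap x z := rfl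
      have : (swap x y * swap x z) ^ 3 = 1 := by
        have h1 : swap x z = swap x y * swap y z * swap x y := by
          have := swap_apply_apply (swap x y) y z
          rw [swap_apply_right, swap_apply_of_ne_of_ne (Ne.symm hxz) (Ne.symm hyz)] at this
          rw [this, swap_inv]
        have h2 : swap y z = swap x z * swap x y * swap x z := by
          have := swap_apply_apply (swap x z) x y
          rw [swap_apply_left, swap_apply_of_ne_of_ne (Ne.symm hxy) (hyz)] at this
          rw [swap_comm y z, this, swap_inv]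
        have hxx : swap x y * swap x y = 1 := swap_mul_self x y
        have hyy : swap x z * swap x z = 1 := swap_mul_self x z
        -- st s = t s t  where s = swap x y, t = swap x z
        have h4 : swap x y * swap x z * swap x y = swap x z * swap x y * swap x z := by
          calc swap x y * swap x z * swap x y
              = swap x y * (swap x y * swap y z * swap x y) * swap x y := by rw [← h1]
            _ = (swap x y * swap x y) * swap y z * (swap x y * swap x y) := by group
            _ = swap y z := by rw [hxx]; group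
            _ = _ := h2
        calc (swap x y * swap x z) ^ 3
            = (swap x y * swap x z * swap x y) * (swap x z * swap x y * swap x z) := by
              rw [pow_succ, pow_two]; group
          _ = (swap x z * swap x y * swap x z) * (swap x z * swap x y * swap x z) := by rw [h4]
          _ = swap x z * swap x y * (swap x z * swap x z) * swap x y * swap x z := by group
          _ = 1 := by
              rw [hyy, mul_one, mul_assoc (swap x z), hxx, mul_one, hyy]
      rw [show 6 = 3 * 2 by norm_num, pow_mul, this, one_pow]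
  by_cases h1 : a = c
  · subst h1; exact h3 _ _ _ hcd hab
  by_cases h2 : a = d
  · subst h2; rw [swap_comm c a]; exact h3 _ _ _ (Ne.symm hcd) hab
  by_cases h4 : b = c
  · subst h4; rw [swap_comm a b]; exact h3 _ _ _ hcd (Ne.symm hab)
  by_cases h5 : b = d
  · subst h5; rw [swap_comm a b, swap_comm c b]; exact h3 _ _ _ (Ne.symm hcd) (Ne.symm hab)
  have hc : Commute (swap c d) (swap a b) := by
    have := swap_apply_apply (swap c d) a b
    rw [swap_apply_of_ne_of_ne h1 h2, swap_apply_of_ne_of_ne h4 h5] at this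
    show swap c d * swap a b = swap a b * swap c d
    calc swap c d * swap a b = (swap c d * swap a b * (swap c d)⁻¹) * swap c d := by group
      _ = swap a b * swap c d := by rw [← this]
  rw [hc.mul_pow, show 6 = 2 * 3 by norm_num, pow_mul, pow_mul, pow_two, pow_two, swap_mul_self,
    swap_mul_self, one_pow, one_mul]

theorem conj_swap_mul (m : Perm F) (a b : F) :
    m * swap a b * m⁻¹ * swap a b = swap (m a) (m b) * swap a b := by
  rw [swap_apply_apply]

/-- A nontrivial permutation of at least three points does not commute with some transposition. -/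
theorem exists_swap [Fintype F] (hF : 3 ≤ Fintype.card F) (m : Perm F) (hm : m ≠ 1) :
    ∃ a b : F, a ≠ b ∧ m * swap a b * m⁻¹ * swap a b ≠ 1 := by
  obtain ⟨a, ha⟩ : ∃ a, m a ≠ a := by
    by_contra hcon
    push Not at hcon
    exact hm (Equiv.ext hcon)
  obtain ⟨b, hb⟩ : ∃ b : F, b ∉ ({a, m a} : Finset F) := by
    by_contra hcon
    push Not at hcon
    have : Fintype.card F ≤ ({a, m a} : Finset F).card :=
      Finset.card_le_card (fun x _ => hcon x)
    have h2 := Finset.card_le_two (a := a) (b := m a)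
    omega
  simp only [Finset.mem_insert, Finset.mem_singleton, not_or] at hb
  refine ⟨a, b, fun h => hb.1 h.symm, ?_⟩
  rw [conj_swap_mul]
  intro h
  have h1 : swap (m a) (m b) = swap a b := by
    rw [mul_eq_one_iff_eq_inv, swap_inv] at h
    exact h
  have h2 : swap a b (m a) = m b := by rw [← h1, swap_apply_left]
  rw [swap_apply_of_ne_of_ne ha (fun h => hb.2 h.symm)] at h2
  exact hb.1 (m.injective h2).symm

theorem support_card_le [Fintype F] (m : Perm F) (a b : F) :
    (m * swap a b * m⁻¹ * swap a b).support.card ≤ 4 := by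
  rw [conj_swap_mul]
  have h1 := Equiv.Perm.support_mul_le (swap (m a) (m b)) (swap a b)
  have h2 : ∀ x y : F, (swap x y).support.card ≤ 2 := by
    intro x y
    by_cases hxy : x = y
    · subst hxy; simp
    · exact (card_support_swap hxy).le
  calc _ ≤ ((swap (m a) (m b)).support ⊔ (swap a b).support).card := Finset.card_le_card h1
    _ ≤ (swap (m a) (m b)).support.card + (swap a b).support.card := Finset.card_union_le _ _
    _ ≤ 2 + 2 := Nat.add_le_add (h2 _ _) (h2 _ _)

/-- An abelian normal subgroup of the symmetric group acts semiregularly. -/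
theorem eq_one_of_fix (M : Subgroup (Perm F)) [M.Normal]
    (hab : ∀ x ∈ M, ∀ y ∈ M, x * y = y * x) (m : Perm F) (hm : m ∈ M) (c : F) (hc : m c = c) :
    m = 1 := by
  by_contra hne
  obtain ⟨a, ha⟩ : ∃ a, m a ≠ a := by
    by_contra hcon
    push Not at hcon
    exact hne (Equiv.ext hcon)
  have hca : c ≠ a := fun h => ha (h ▸ hc)
  have hcb : c ≠ m a := fun h => hca (m.injective (hc.trans h))
  set b := m a with hb
  have h1 : swap b c * m * (swap b c)⁻¹ ∈ M := ‹M.Normal›.conj_mem m hm _
  have h2 := congrArg (fun f : Perm F => f a) (hab m hm _ h1)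
  simp only [Perm.mul_apply, swap_inv] at h2
  rw [swap_apply_of_ne_of_ne (Ne.symm ha) (Ne.symm hca), ← hb, swap_apply_left, hc,
    swap_apply_right] at h2
  exact hcb h2

/-- A nontrivial normal subgroup of the symmetric group is transitive. -/
theorem exists_map (M : Subgroup (Perm F)) [M.Normal] (hM : M ≠ ⊥) (a b : F) :
    ∃ m ∈ M, m a = b := by
  by_cases hab : a = b
  · exact ⟨1, one_mem _, hab⟩
  obtain ⟨⟨m, hm⟩, hne'⟩ := Subgroup.ne_bot_iff_exists_ne_one.mp hM
  have hne : m ≠ 1 := fun h' => hne' (Subtype.ext h')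
  obtain ⟨x, hx⟩ : ∃ a, m a ≠ a := by
    by_contra hcon
    push Not at hcon
    exact hne (Equiv.ext hcon)
  set y := m x with hy
  set s : Perm F := swap (swap x a y) b * swap x a with hs
  have h1 : s x = a := by
    rw [hs, Perm.mul_apply, swap_apply_left]
    refine swap_apply_of_ne_of_ne ?_ hab
    intro h
    apply hx
    have := (swap x a).injective (a₁ := x) (a₂ := y) (by rw [swap_apply_left]; exact h)
    exact this.symm
  have h2 : s y = b := by
    rw [hs, Perm.mul_apply, swap_apply_left]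
  refine ⟨s * m * s⁻¹, ‹M.Normal›.conj_mem m hm s, ?_⟩
  have h3 : s⁻¹ a = x := by rw [← h1]; simp
  rw [Perm.mul_apply, Perm.mul_apply, h3, ← hy, h2]

/-- On at least five points, the symmetric group has no nontrivial abelian normal subgroup. -/
theorem eq_bot_of_abelian [Fintype F] (hF : 5 ≤ Fintype.card F) (M : Subgroup (Perm F)) [M.Normal]
    (hab : ∀ x ∈ M, ∀ y ∈ M, x * y = y * x) : M = ⊥ := by
  rw [eq_bot_iff]
  intro m hm
  rw [Subgroup.mem_bot]
  by_contra hne
  obtain ⟨a, b, _, h⟩ := exists_swap (by omega) m hne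
  have h1 : m * swap a b * m⁻¹ * swap a b ∈ M := by
    have e : m * swap a b * m⁻¹ * swap a b = m * (swap a b * m⁻¹ * (swap a b)⁻¹) := by
      rw [swap_inv]; group
    rw [e]
    exact mul_mem hm (‹M.Normal›.conj_mem _ (inv_mem hm) _)
  have h2 := support_card_le m a b
  obtain ⟨c, hc⟩ : ∃ c : F, c ∉ (m * swap a b * m⁻¹ * swap a b).support := by
    by_contra hcon
    push Not at hcon
    have : Fintype.card F ≤ (m * swap a b * m⁻¹ * swap a b).support.card :=
      Finset.card_le_card (fun x _ => hcon x)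
    omega
  rw [Equiv.Perm.notMem_support] at hc
  exact h (eq_one_of_fix M hab _ h1 c hc)

end sym

end Cfsg.Agent.H544.MillerA
end

-- part: H544/MillerB
section
/-!
# Lemmas for Miller's bound on transitivity (degree `kp + r`)

Part B: a `p`-group of permutations all of whose orbits have length `1` or `p`.
-/

set_option autoImplicit false

namespace Cfsg.Agent.H544.MillerB

open Equiv Equiv.Perm MulAction

variable {α : Type*}

/-- `P` is a `p`-group of permutations fixing `F` pointwise and with all other orbits of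
length `p`. -/
structure Setup (p : ℕ) (P : Subgroup (Perm α)) (F : Set α) : Prop where
  fix : ∀ x ∈ F, ∀ h ∈ P, h x = x
  orb : ∀ x, x ∉ F → Nat.card (MulAction.orbit P x) = p
  pg : IsPGroup p P

variable {p : ℕ} {P : Subgroup (Perm α)} {F : Set α}

namespace Setup

theorem stab_index (S : Setup p P F) {x : α} (hx : x ∉ F) : (stabilizer P x).index = p := by
  rw [index_stabilizer, Set.ncard_def, ← S.orb x hx]; rfl

theorem stab_normal [Finite α] (hp : p.Prime) (S : Setup p P F) {x : α} (hx : x ∉ F) :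
    (stabilizer P x).Normal := by
  have := Fact.mk hp
  obtain ⟨n, hn⟩ := (IsPGroup.iff_card).mp S.pg
  apply Subgroup.normal_of_index_eq_minFac_card
  rw [S.stab_index hx, hn]
  have hn0 : n ≠ 0 := by
    rintro rfl
    have h1 := Subgroup.index_dvd_card (stabilizer P x)
    rw [hn, pow_zero, S.stab_index hx, Nat.dvd_one] at h1
    exact hp.one_lt.ne' h1
  exact (hp.pow_minFac hn0).symm

theorem comm_at [Finite α] (hp : p.Prime) (S : Setup p P F) (x : α) (h : Perm α) (hh : h ∈ P)
    (h' : Perm α) (hh' : h' ∈ P) : (h * h') x = (h' * h) x := by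
  by_cases hx : x ∈ F
  · rw [Perm.mul_apply, Perm.mul_apply, S.fix x hx h hh, S.fix x hx h' hh', S.fix x hx h hh]
  have := Fact.mk hp
  have := S.stab_normal hp hx
  have hc : Nat.card (P ⧸ stabilizer P x) = p := S.stab_index hx
  have : IsCyclic (P ⧸ stabilizer P x) := isCyclic_of_prime_card hc
  let a : P := ⟨h, hh⟩
  let b : P := ⟨h', hh'⟩
  have h1 : (QuotientGroup.mk a : P ⧸ stabilizer P x) * QuotientGroup.mk b =
      QuotientGroup.mk b * QuotientGroup.mk a := by
    letI := IsCyclic.commGroup (α := P ⧸ stabilizer P x)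
    exact mul_comm _ _
  rw [← QuotientGroup.mk_mul, ← QuotientGroup.mk_mul, QuotientGroup.eq] at h1
  have h2 : ((a * b)⁻¹ * (b * a)) • x = x := h1
  have h3 : (b * a) • x = (a * b) • x := by
    rw [mul_smul, inv_smul_eq_iff] at h2
    exact h2
  exact h3.symm

theorem comm [Finite α] (hp : p.Prime) (S : Setup p P F) (h : Perm α) (hh : h ∈ P)
    (h' : Perm α) (hh' : h' ∈ P) : h * h' = h' * h :=
  Equiv.ext (fun x => S.comm_at hp x h hh h' hh')

theorem pow_p [Finite α] (hp : p.Prime) (S : Setup p P F) (h : Perm α) (hh : h ∈ P) :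
    h ^ p = 1 := by
  apply Equiv.ext
  intro x
  rw [Perm.one_apply]
  by_cases hx : x ∈ F
  · exact S.fix x hx _ (pow_mem hh p)
  have := S.stab_normal hp hx
  have h1 := Subgroup.pow_index_mem (stabilizer P x) (⟨h, hh⟩ : P)
  rw [S.stab_index hx] at h1
  exact h1

theorem gen [Finite α] (hp : p.Prime) (S : Setup p P F) {x : α} (hx : x ∉ F) {u : Perm α}
    (hu : u ∈ P) (hux : u x ≠ x) (h : Perm α) (hh : h ∈ P) : ∃ i : ℕ, h x = (u ^ i) x := by
  have := Fact.mk hp
  have := S.stab_normal hp hx
  have hc : Nat.card (P ⧸ stabilizer P x) = p := S.stab_index hx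
  let a : P := ⟨u, hu⟩
  let b : P := ⟨h, hh⟩
  have hne : (QuotientGroup.mk a : P ⧸ stabilizer P x) ≠ 1 := by
    intro h1
    rw [QuotientGroup.eq_one_iff] at h1
    exact hux h1
  obtain ⟨i, hi⟩ := mem_powers_of_prime_card (g' := (QuotientGroup.mk b : P ⧸ stabilizer P x))
    hc hne
  refine ⟨i, ?_⟩
  have h2 : (QuotientGroup.mk (a ^ i) : P ⧸ stabilizer P x) = QuotientGroup.mk b := by
    rw [← hi]; rfl
  rw [QuotientGroup.eq] at h2
  have h3 : ((a ^ i)⁻¹ * b) • x = x := h2
  rw [mul_smul, inv_smul_eq_iff] at h3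
  exact h3

/-- If `h x = h' x` then `h` and `h'` agree on the whole orbit of `x`. -/
theorem eq_on_orbit [Finite α] (hp : p.Prime) (S : Setup p P F) {x : α} {h h' : Perm α}
    (hh : h ∈ P) (hh' : h' ∈ P) (e : h x = h' x) {v : Perm α} (hv : v ∈ P) :
    h (v x) = h' (v x) := by
  rw [← Perm.mul_apply, ← Perm.mul_apply, S.comm hp h hh v hv, S.comm hp h' hh' v hv,
    Perm.mul_apply, Perm.mul_apply, e]

/-- `n` normalizes `P` and the stabilizer of `x` in `P`. -/
def Good (P : Subgroup (Perm α)) (n : Perm α) (x : α) : Prop :=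
  (∀ h, h ∈ P ↔ n * h * n⁻¹ ∈ P) ∧ ∀ h ∈ P, h x = x ↔ (n * h * n⁻¹) x = x

theorem good_inv {n : Perm α} {x : α} (g : Good P n x) : Good P n⁻¹ x := by
  refine ⟨fun h => ?_, fun h hh => ?_⟩
  · have h1 := g.1 (n⁻¹ * h * n⁻¹⁻¹)
    rw [h1]
    have : n * (n⁻¹ * h * n⁻¹⁻¹) * n⁻¹ = h := by group
    rw [this]
  · have e : n * (n⁻¹ * h * n⁻¹⁻¹) * n⁻¹ = h := by group
    have hm : n⁻¹ * h * n⁻¹⁻¹ ∈ P := by rw [g.1, e]; exact hh
    have h1 := g.2 _ hm
    rw [e] at h1
    exact h1.symm

theorem good_mul {n n' : Perm α} {x : α} (g : Good P n x) (g' : Good P n' x) :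
    Good P (n * n') x := by
  have e : ∀ h : Perm α, n * n' * h * (n * n')⁻¹ = n * (n' * h * n'⁻¹) * n⁻¹ := by
    intro h; group
  refine ⟨fun h => ?_, fun h hh => ?_⟩
  · rw [e, ← g.1, ← g'.1]
  · rw [e, ← g.2 _ ((g'.1 h).mp hh), ← g'.2 h hh]

/-- On the quotient `P / P_x`, cyclic of order `p`, a permutation `n` acts as a power. -/
theorem exists_pow [Finite α] (hp : p.Prime) (S : Setup p P F) {x : α} (hx : x ∉ F)
    {n : Perm α} (g : Good P n x) : ∃ m : ℕ, ∀ h ∈ P, (n * h * n⁻¹) x = (h ^ m) x := by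
  -- an element of `P` moving `x`
  obtain ⟨u, hu, hux⟩ : ∃ u ∈ P, u x ≠ x := by
    by_contra hcon
    push Not at hcon
    have h1 : MulAction.orbit P x = {x} := by
      ext y
      constructor
      · rintro ⟨⟨h, hh⟩, rfl⟩
        exact hcon h hh
      · rintro rfl
        exact mem_orbit_self _
    have h2 := S.orb x hx
    rw [h1, Nat.card_unique] at h2
    exact hp.one_lt.ne h2
  obtain ⟨m, hm⟩ := S.gen hp hx hu hux (n * u * n⁻¹) ((g.1 u).mp hu)
  refine ⟨m, fun h hh => ?_⟩
  obtain ⟨i, hi⟩ := S.gen hp hx hu hux h hh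
  -- `h = v u^i` with `v` fixing `x`
  have hv : (h * (u ^ i)⁻¹) x = x := by
    rw [S.comm hp h hh _ (inv_mem (pow_mem hu i)), Perm.mul_apply, hi, ← Perm.mul_apply]
    simp
  have hvP : h * (u ^ i)⁻¹ ∈ P := mul_mem hh (inv_mem (pow_mem hu i))
  have hv2 := (g.2 _ hvP).mp hv
  have hv2P := (g.1 _).mp hvP
  have e1 : n * h * n⁻¹ = (n * u * n⁻¹) ^ i * (n * (h * (u ^ i)⁻¹) * n⁻¹) := by
    rw [conj_pow]
    have : h = (u ^ i) * (h * (u ^ i)⁻¹) := by
      rw [S.comm hp h hh _ (inv_mem (pow_mem hu i))]; group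
    calc n * h * n⁻¹ = n * ((u ^ i) * (h * (u ^ i)⁻¹)) * n⁻¹ := by rw [← this]
      _ = _ := by group
  rw [e1, Perm.mul_apply, hv2]
  -- powers of `n u n⁻¹` and of `u^m` agree at `x`
  have hw : n * u * n⁻¹ ∈ P := (g.1 u).mp hu
  have hum : u ^ m ∈ P := pow_mem hu m
  have key : ∀ j : ℕ, ∀ a b : Perm α, a ∈ P → b ∈ P → a x = b x → (a ^ j) x = (b ^ j) x := by
    intro j a b ha hb hab
    induction j with
    | zero => simp
    | succ j ih =>
      rw [pow_succ', pow_succ', Perm.mul_apply, Perm.mul_apply, ih]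
      exact S.eq_on_orbit hp ha hb hab (pow_mem hb j)
  rw [key i _ _ hw hum hm, key m h (u ^ i) hh (pow_mem hu i) hi, ← pow_mul, ← pow_mul, mul_comm]

/-- Commutators of elements normalizing `P` and `P_x` centralize `P` modulo `P_x`. -/
theorem commutator_fix [Finite α] (hp : p.Prime) (S : Setup p P F) {x : α} (hx : x ∉ F)
    {n n' : Perm α} (g : Good P n x) (g' : Good P n' x) (h : Perm α) (hh : h ∈ P) :
    ((n * n' * n⁻¹ * n'⁻¹) * h * (n * n' * n⁻¹ * n'⁻¹)⁻¹) x = h x := by
  obtain ⟨m, hm⟩ := S.exists_pow hp hx g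
  obtain ⟨m', hm'⟩ := S.exists_pow hp hx g'
  have key : ∀ j : ℕ, ∀ a b : Perm α, a ∈ P → b ∈ P → a x = b x → (a ^ j) x = (b ^ j) x := by
    intro j a b ha hb hab
    induction j with
    | zero => simp
    | succ j ih =>
      rw [pow_succ', pow_succ', Perm.mul_apply, Perm.mul_apply, ih]
      exact S.eq_on_orbit hp ha hb hab (pow_mem hb j)
  -- both `n n'` and `n' n` act as the power `m m'`
  have h1 : ∀ a ∈ P, ((n * n') * a * (n * n')⁻¹) x = (a ^ (m * m')) x := by
    intro a ha
    have e : (n * n') * a * (n * n')⁻¹ = n * (n' * a * n'⁻¹) * n⁻¹ := by group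
    rw [e, hm _ ((g'.1 a).mp ha), key m _ (a ^ m') ((g'.1 a).mp ha) (pow_mem ha m') (hm' a ha),
      ← pow_mul, mul_comm]
  have h2 : ∀ a ∈ P, ((n' * n) * a * (n' * n)⁻¹) x = (a ^ (m * m')) x := by
    intro a ha
    have e : (n' * n) * a * (n' * n)⁻¹ = n' * (n * a * n⁻¹) * n'⁻¹ := by group
    rw [e, hm' _ ((g.1 a).mp ha), key m' _ (a ^ m) ((g.1 a).mp ha) (pow_mem ha m) (hm a ha),
      ← pow_mul]
  set a : Perm α := (n' * n)⁻¹ * h * (n' * n) with ha
  have haP : a ∈ P := by
    have := (good_inv (good_mul g' g)).1 h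
    rw [this, inv_inv] at hh
    exact hh
  have e1 : (n * n' * n⁻¹ * n'⁻¹) * h * (n * n' * n⁻¹ * n'⁻¹)⁻¹ =
      (n * n') * a * (n * n')⁻¹ := by rw [ha]; group
  have e2 : h = (n' * n) * a * (n' * n)⁻¹ := by rw [ha]; group
  rw [e1, h1 a haP, ← h2 a haP, ← e2]

/-- An element normalizing `P` and preserving the orbit of `x` is good at `x`. -/
theorem good_of_orbit [Finite α] (hp : p.Prime) (S : Setup p P F) {x : α} {n : Perm α}
    (hn : ∀ h, h ∈ P ↔ n * h * n⁻¹ ∈ P) (hx : ∃ h ∈ P, n x = h x) : Good P n x := by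
  refine ⟨hn, fun h hh => ?_⟩
  obtain ⟨v, hv, hvx⟩ := hx
  have hc := S.comm hp (n * h * n⁻¹) ((hn h).mp hh) v hv
  have e1 : (n * h * n⁻¹) (n x) = n (h x) := by
    simp [Perm.mul_apply]
  constructor
  · intro h1
    rw [h1, hvx, ← Perm.mul_apply, hc, Perm.mul_apply] at e1
    exact v.injective e1
  · intro h1
    rw [hvx, ← Perm.mul_apply, hc, Perm.mul_apply, h1, ← hvx] at e1
    exact (n.injective e1).symm

/-- The elements of a `p`-group moving fewer than `2p` points are `p`-cycles. -/
theorem isCycle [Fintype α] [DecidableEq α] (hp : p.Prime) (S : Setup p P F) {h : Perm α}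
    (hh : h ∈ P) (h1 : h ≠ 1) (hs : h.support.card < 2 * p) :
    h.IsCycle ∧ h.support.card = p := by
  have ho : orderOf h = p := by
    have := Fact.mk hp
    exact orderOf_eq_prime (S.pow_p hp h hh) h1
  have hc : h.IsCycle := isCycle_of_prime_order (by rw [ho]; exact hp) (by rw [ho]; exact hs)
  exact ⟨hc, by rw [← hc.orderOf, ho]⟩

/-- An element of `C(P)` preserving the `P`-orbit of `x` has its `p`-th power fixing `x`. -/
theorem pow_fix [Finite α] (hp : p.Prime) (S : Setup p P F) {x : α} {g : Perm α}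
    (hg : ∀ h ∈ P, g * h = h * g) (hx : ∃ h ∈ P, g x = h x) : (g ^ p) x = x := by
  obtain ⟨h, hh, hgx⟩ := hx
  have key : ∀ j : ℕ, (g ^ j) x = (h ^ j) x := by
    intro j
    induction j with
    | zero => simp
    | succ j ih =>
      rw [pow_succ', Perm.mul_apply, ih, ← Perm.mul_apply, hg _ (pow_mem hh j), Perm.mul_apply,
        hgx, ← Perm.mul_apply, ← pow_succ]
  rw [key, S.pow_p hp h hh]; rfl

end Setup

end Cfsg.Agent.H544.MillerB
end

-- part: H544/MillerC
section
/-!
# Lemmas for Miller's bound on transitivity (degree `kp + r`)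

Part C: Sylow `p`-subgroups of a pointwise stabilizer, Witt's argument, and the case `p ≥ 5`.
-/

set_option autoImplicit false

namespace Cfsg.Agent.H544.MillerC

open Equiv Equiv.Perm MulAction Cfsg.Agent.H544.MillerB
open scoped Pointwise

variable {α : Type*} [Fintype α] [DecidableEq α]

/-- Existence of elements of a multiply transitive group with prescribed values. -/
theorem exists_elem {G : Subgroup (Perm α)} {t : ℕ} (hG : IsMultiplyPretransitive G α t)
    (x y : Fin t ↪ α) : ∃ g ∈ G, ∀ i, g (x i) = y i := by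
  obtain ⟨g, hg⟩ := hG.exists_smul_eq x y
  refine ⟨g.1, g.2, fun i => ?_⟩
  have := DFunLike.congr_fun hg i
  exact this

theorem mono {G : Subgroup (Perm α)} {s t : ℕ} (hst : s ≤ t) (ht : t ≤ Fintype.card α)
    (hG : IsMultiplyPretransitive G α t) : IsMultiplyPretransitive G α s :=
  isMultiplyPretransitive_of_le hst (by rw [Nat.card_eq_fintype_card]; exact ht)

/-- The pointwise stabilizer of a set, inside a permutation group. -/
def fixing (G : Subgroup (Perm α)) (F : Set α) : Subgroup (Perm α) where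
  carrier := {g | g ∈ G ∧ ∀ x ∈ F, g x = x}
  mul_mem' := by
    rintro a b ⟨ha, ha'⟩ ⟨hb, hb'⟩
    refine ⟨mul_mem ha hb, fun x hx => ?_⟩
    rw [Perm.mul_apply, hb' x hx, ha' x hx]
  one_mem' := ⟨one_mem _, fun x _ => rfl⟩
  inv_mem' := by
    rintro a ⟨ha, ha'⟩
    refine ⟨inv_mem ha, fun x hx => ?_⟩
    rw [Perm.inv_eq_iff_eq, ha' x hx]

theorem mem_fixing {G : Subgroup (Perm α)} {F : Set α} {g : Perm α} :
    g ∈ fixing G F ↔ g ∈ G ∧ ∀ x ∈ F, g x = x := Iff.rfl

/-- The data produced by a Sylow `p`-subgroup of the stabilizer of `r` points. -/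
theorem exists_setup (G : Subgroup (Perm α)) {k p r : ℕ} (hp : p.Prime)
    (hn : Fintype.card α = k * p + r) (hk : 1 ≤ k) (hpk : k < p)
    (hG : IsMultiplyPretransitive G α (r + 1)) (x0 : Fin r ↪ α) :
    ∃ P : Subgroup (Perm α), P ≤ G ∧ Setup p P (Set.range x0) ∧
      ∀ σ : Perm (Fin r), ∃ n ∈ G, (∀ h, h ∈ P ↔ n * h * n⁻¹ ∈ P) ∧
        ∀ i, n (x0 i) = x0 (σ i) := by
  have := Fact.mk hp
  set F : Set α := Set.range x0 with hF
  set H : Subgroup (Perm α) := fixing G F with hH
  -- `H` is transitive on the complement of `F`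
  have htr : ∀ a b, a ∉ F → b ∉ F → ∃ h ∈ H, h a = b := by
    intro a b ha hb
    obtain ⟨g, hg, hgx⟩ := exists_elem hG (Fin.Embedding.cons x0 ha) (Fin.Embedding.cons x0 hb)
    refine ⟨g, ⟨hg, ?_⟩, ?_⟩
    · rintro _ ⟨i, rfl⟩
      have := hgx i.succ
      simpa [Fin.Embedding.cons] using this
    · have := hgx 0
      simpa [Fin.Embedding.cons] using this
  have hFc : Set.ncard Fᶜ = k * p := by
    have h1 : F.ncard = r := by
      rw [hF, ← Set.image_univ, Set.ncard_image_of_injective _ x0.injective, Set.ncard_univ,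
        Nat.card_fin]
    have h2 := Set.ncard_add_ncard_compl F
    rw [h1, Nat.card_eq_fintype_card, hn] at h2
    omega
  let Q : Sylow p H := default
  set P : Subgroup (Perm α) := (Q : Subgroup H).map H.subtype with hP
  have hPH : P ≤ H := Subgroup.map_subtype_le _
  have hcardP : Nat.card P = Nat.card (Q : Subgroup H) :=
    Nat.card_congr ((Q : Subgroup H).equivMapOfInjective _ H.subtype_injective).toEquiv.symm
  -- `P` has no fixed point outside `F`
  have hmove : ∀ x, x ∉ F → ∃ h ∈ P, h x ≠ x := by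
    intro x hx
    by_contra hcon
    push Not at hcon
    -- the stabilizer of `x` in `H` has index `k p`
    have h1 : MulAction.orbit H x = Fᶜ := by
      ext y
      constructor
      · rintro ⟨⟨h, hh⟩, rfl⟩
        intro hy
        apply hx
        have h2 : h (h x) = h x := hh.2 _ hy
        have h3 : h x = x := h.injective h2
        rw [← h3]; exact hy
      · intro hy
        obtain ⟨h, hh, hxy⟩ := htr x y hx hy
        exact ⟨⟨h, hh⟩, hxy⟩
    have h2 : (stabilizer H x).index = k * p := by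
      rw [index_stabilizer, h1, hFc]
    have h3 : (Q : Subgroup H) ≤ stabilizer H x := by
      intro q hq
      exact hcon q.1 ⟨q, hq, rfl⟩
    have h4 : (stabilizer H x).index ∣ (Q : Subgroup H).index := Subgroup.index_dvd_of_le h3
    rw [h2] at h4
    exact Q.not_dvd_index (dvd_trans (Dvd.intro_left k rfl) h4)
  have hpg : IsPGroup p P := Q.isPGroup'.map _
  have hsetup : Setup p P F := by
    refine ⟨fun x hx h hh => (hPH hh).2 x hx, ?_, hpg⟩
    intro x hx
    obtain ⟨m, hm⟩ := hpg.card_orbit x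
    have h1 : Nat.card (MulAction.orbit P x) ≤ k * p := by
      rw [← hFc, Nat.card_coe_set_eq]
      apply Set.ncard_le_ncard _ (Set.toFinite _)
      rintro _ ⟨⟨h, hh⟩, rfl⟩ hy
      apply hx
      have h2 : h (h x) = h x := (hPH hh).2 _ hy
      have h3 : h x = x := h.injective h2
      rw [← h3]; exact hy
    have h2 : Nat.card (MulAction.orbit P x) < p ^ 2 := by
      refine lt_of_le_of_lt h1 ?_
      rw [pow_two]
      exact Nat.mul_lt_mul_of_pos_right hpk hp.pos
    rw [hm] at h2
    have h3 : m < 2 := (Nat.pow_lt_pow_iff_right hp.one_lt).mp h2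
    have h4 : m ≠ 0 := by
      rintro rfl
      obtain ⟨h, hh, hhx⟩ := hmove x hx
      rw [pow_zero, Nat.card_eq_one_iff_unique] at hm
      obtain ⟨hs, _⟩ := hm
      have h5 : (⟨h x, ⟨⟨h, hh⟩, rfl⟩⟩ : MulAction.orbit P x) = ⟨x, mem_orbit_self x⟩ :=
        Subsingleton.elim _ _
      exact hhx (congrArg Subtype.val h5)
    have h5 : m = 1 := by omega
    rw [hm, h5, pow_one]
  refine ⟨P, fun h hh => (hPH hh).1, hsetup, ?_⟩
  intro σ
  -- Witt's argument
  have hG' : IsMultiplyPretransitive G α r := mono (Nat.le_succ r) (by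
    have : 1 ≤ k * p := Nat.mul_pos hk hp.pos
    omega) hG
  obtain ⟨g, hg, hgx⟩ := exists_elem hG' x0 (σ.toEmbedding.trans x0)
  have hgx' : ∀ i, g (x0 i) = x0 (σ i) := hgx
  have hgF : ∀ x, x ∈ F ↔ g x ∈ F := by
    intro x
    constructor
    · rintro ⟨i, rfl⟩
      exact ⟨σ i, (hgx' i).symm⟩
    · rintro ⟨i, hi⟩
      refine ⟨σ.symm i, ?_⟩
      apply g.injective
      rw [hgx', Equiv.apply_symm_apply, hi]
  have hnormH : ∀ h, h ∈ H → g * h * g⁻¹ ∈ H := by
    rintro h ⟨hh, hh'⟩
    refine ⟨mul_mem (mul_mem hg hh) (inv_mem hg), fun x hx => ?_⟩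
    have h1 : g⁻¹ x ∈ F := by rw [hgF]; simpa using hx
    rw [Perm.mul_apply, Perm.mul_apply, hh' _ h1]; simp
  have hnormH' : ∀ h, h ∈ H → g⁻¹ * h * g ∈ H := by
    rintro h ⟨hh, hh'⟩
    refine ⟨mul_mem (mul_mem (inv_mem hg) hh) hg, fun x hx => ?_⟩
    have h1 : g x ∈ F := by rw [← hgF]; exact hx
    rw [Perm.mul_apply, Perm.mul_apply, hh' _ h1]; simp
  let c : MulAut H :=
    { toFun := fun h => ⟨g * h.1 * g⁻¹, hnormH _ h.2⟩
      invFun := fun h => ⟨g⁻¹ * h.1 * g, hnormH' _ h.2⟩
      left_inv := fun h => Subtype.ext (by simp [mul_assoc])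
      right_inv := fun h => Subtype.ext (by simp [mul_assoc])
      map_mul' := fun a b => Subtype.ext (by simp [mul_assoc]) }
  -- the image of `Q` under `c` is a Sylow subgroup of `H`
  have hcardc : Nat.card ((Q : Subgroup H).map c.toMonoidHom) = Nat.card (Q : Subgroup H) :=
    Nat.card_congr ((Q : Subgroup H).equivMapOfInjective _ c.injective).toEquiv.symm
  let Q' : Sylow p H := Sylow.ofCard ((Q : Subgroup H).map c.toMonoidHom)
    (by rw [hcardc]; exact Q.card_eq_multiplicity)
  obtain ⟨y, hy⟩ := MulAction.exists_smul_eq H Q' Q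
  have hyQ : ∀ q : H, q ∈ (Q : Subgroup H) ↔ y * c q * y⁻¹ ∈ (Q : Subgroup H) := by
    intro q
    have h1 : y * c q * y⁻¹ ∈ (Q : Subgroup H) ↔ y * c q * y⁻¹ ∈ ((y • Q' : Sylow p H) : Subgroup H) := by
      rw [hy]
    rw [h1, Sylow.coe_subgroup_smul, Subgroup.mem_pointwise_smul_iff_inv_smul_mem]
    have h2 : (MulAut.conj y)⁻¹ • (y * c q * y⁻¹) = c q := by
      rw [← map_inv]
      show y⁻¹ * (y * c q * y⁻¹) * y⁻¹⁻¹ = c q
      group
    rw [h2]
    constructor
    · intro hq; exact ⟨q, hq, rfl⟩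
    · rintro ⟨q', hq', h3⟩
      have : q' = q := c.injective h3
      rw [← this]; exact hq'
  refine ⟨(y : Perm α) * g, mul_mem y.2.1 hg, ?_, ?_⟩
  · intro h
    constructor
    · rintro ⟨q, hq, rfl⟩
      refine ⟨y * c q * y⁻¹, (hyQ q).mp hq, ?_⟩
      show (y : Perm α) * (g * q * g⁻¹) * (y : Perm α)⁻¹ = _
      simp [mul_assoc]
    · rintro ⟨q, hq, hqh⟩
      have h1 : y * c (c.symm (y⁻¹ * q * y)) * y⁻¹ = q := by
        rw [MulEquiv.apply_symm_apply]; group
      refine ⟨c.symm (y⁻¹ * q * y), ?_, ?_⟩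
      · refine (hyQ _).mpr ?_
        rw [h1]; exact hq
      · show g⁻¹ * ((y : Perm α)⁻¹ * q * y) * g = h
        have h2 : (q : Perm α) = (y : Perm α) * g * h * ((y : Perm α) * g)⁻¹ := hqh
        rw [h2]; group
  · intro i
    rw [Perm.mul_apply, hgx']
    exact y.2.2 _ ⟨σ i, rfl⟩

end Cfsg.Agent.H544.MillerC
end
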